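import Mathlib
import Groth.Agent.S13986
import Groth.Agent.DevissLib.ClosedImm
import Groth.Agent.DevissLib.Basic

/-!
# Serre classes of coherent modules on a Noetherian scheme
-/

set_option autoImplicit false
set_option linter.all false

universe u

open CategoryTheory CategoryTheory.Limits AlgebraicGeometry TopologicalSpace
open scoped ZeroObject

namespace Groth.Agent.SerreCohLib

variable (X : Scheme.{u})

/-- `P` is a Serre class on coherent modules. -/
def IsSerre (P : ObjectProperty X.Modules) : Prop :=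
  ∀ S : ShortComplex X.Modules, S.ShortExact → Coh.IsCoh S.X₁ → Coh.IsCoh S.X₂ →
    Coh.IsCoh S.X₃ → (P S.X₂ ↔ P S.X₁ ∧ P S.X₃)

variable {X}

theorem isSerre_support_subset (Z : Set X) : IsSerre X (fun M => CohB1.support M ⊆ Z) := by
  intro S hS h₁ h₂ h₃
  haveI := hS.mono_f
  haveI := hS.epi_g
  exact ⟨fun h => ⟨(DevissLib.support_mono S.f).trans h, (DevissLib.support_epi S.g).trans h⟩,
    fun h => (Groth.Agent.S13986.support_mid hS).trans (Set.union_subset h.1 h.2)⟩

theorem support_biprod_eq {A B : X.Modules} :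
    CohB1.support (A ⊞ B) = CohB1.support A ∪ CohB1.support B :=
  DevissLib.support_biprod.antisymm
    (Set.union_subset (DevissLib.support_mono biprod.inl) (DevissLib.support_mono biprod.inr))

/-- Every closed subset is the support of a coherent module. -/
theorem exists_coh_support_eq [IsNoetherian X] (Z : Set X) (hZ : IsClosed Z) :
    ∃ F : X.Modules, Coh.IsCoh F ∧ CohB1.support F = Z := by
  obtain ⟨S, hSf, hSc, hSi, rfl⟩ := NoetherianSpace.exists_finite_set_isClosed_irreducible hZ
  clear hZ
  induction S, hSf using Set.Finite.induction_on with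
  | empty => exact ⟨0, DevissLib.isCoh_of_isZero (isZero_zero _),
      (DevissLib.support_of_isZero (isZero_zero _)).trans Set.sUnion_empty.symm⟩
  | @insert T S' _ _ ih =>
    obtain ⟨Z, i, hi, hint, hr⟩ := DevissLib.exists_integral_closed
      (hSc T (Set.mem_insert _ _)) (hSi T (Set.mem_insert _ _))
    obtain ⟨hc, hs, -⟩ := DevissLib.push_generic i (Coh.structureModule Z) (DevissLib.isCoh_structureModule Z) ⊤
      ⟨genericPoint Z, trivial⟩ (fun W _ => DevissLib.exists_gen_structureModule W)
    obtain ⟨F, hF, hFs⟩ := ih (fun t ht => hSc t (Set.mem_insert_of_mem _ ht))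
      (fun t ht => hSi t (Set.mem_insert_of_mem _ ht))
    exact ⟨(Coh.push i).obj (Coh.structureModule Z) ⊞ F, DevissLib.isCoh_biprod hc hF,
      by rw [support_biprod_eq, hs, hr, hFs, Set.sUnion_insert]⟩

theorem IsSerre.of_support_subset [IsNoetherian X] {P : ObjectProperty X.Modules} (hP : IsSerre X P)
    {F M : X.Modules} (hF : Coh.IsCoh F) (hM : Coh.IsCoh M) (hPF : P F)
    (h : CohB1.support M ⊆ CohB1.support F) : P M :=
  (Groth.Agent.S13986.result X F M hF hM).mpr h P hPF hP

theorem IsSerre.biprod [IsNoetherian X] {P : ObjectProperty X.Modules} (hP : IsSerre X P)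
    {A B : X.Modules} (hA : Coh.IsCoh A) (hB : Coh.IsCoh B) (hPA : P A) (hPB : P B) : P (A ⊞ B) :=
  (hP (ShortComplex.mk (biprod.inl : A ⟶ A ⊞ B) biprod.snd (by simp))
    ((ShortComplex.Splitting.ofHasBinaryBiproduct A B).shortExact) hA (DevissLib.isCoh_biprod hA hB) hB).mpr ⟨hPA, hPB⟩

end Groth.Agent.SerreCohLib
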